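import Cfsg.Agent.Lib.OutPresented.He.Data

/-! Generated: the stabiliser chain. -/

set_option autoImplicit false
set_option maxRecDepth 20000
set_option linter.all false
set_option Elab.async false

namespace CfsgLib.OutPresented.He

open CfsgLib.SporRecognition.CosetCert

theorem eq5_c0 : allPow 2058 (fun x => Nat.beq ((U, Ui).1 x) (trace (([(U, Ui)] : List TPair).map Prod.fst) x)) 11 0 = true := by decide +kernel
theorem eq5_c1 : allPow 2058 (fun x => Nat.beq ((U, Ui).1 x) (trace (([(U, Ui)] : List TPair).map Prod.fst) x)) 11 2048 = true := by decide +kernel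
theorem eq5 : allBelow 12 2058 (fun x => Nat.beq ((U, Ui).1 x) (trace (([(U, Ui)] : List TPair).map Prod.fst) x)) = true :=
  allBelow_of_upto (hi := 4096)
    (Upto.trans (mid := 2048) ((Upto.of_pow eq5_c0 (Nat.le_refl _)) : Upto _ _ 0 (0 + 2 ^ 11))
    ((Upto.of_pow eq5_c1 (Nat.le_refl _)) : Upto _ _ 2048 (2048 + 2 ^ 11)))
    (by decide) (by decide)
theorem inv5_c0 : allPow 2058 (invStep (U, Ui).1 (U, Ui).2 2058) 11 0 = true := by decide +kernel
theorem inv5_c1 : allPow 2058 (invStep (U, Ui).1 (U, Ui).2 2058) 11 2048 = true := by decide +kernel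
theorem inv5 : allBelow 12 2058 (invStep (U, Ui).1 (U, Ui).2 2058) = true :=
  allBelow_of_upto (hi := 4096)
    (Upto.trans (mid := 2048) ((Upto.of_pow inv5_c0 (Nat.le_refl _)) : Upto _ _ 0 (0 + 2 ^ 11))
    ((Upto.of_pow inv5_c1 (Nat.le_refl _)) : Upto _ _ 2048 (2048 + 2 ^ 11)))
    (by decide) (by decide)

theorem eq7_c0 : allPow 2058 (fun x => Nat.beq ((S, Si).1 x) (trace (([(S, Si)] : List TPair).map Prod.fst) x)) 11 0 = true := by decide +kernel
theorem eq7_c1 : allPow 2058 (fun x => Nat.beq ((S, Si).1 x) (trace (([(S, Si)] : List TPair).map Prod.fst) x)) 11 2048 = true := by decide +kernel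
theorem eq7 : allBelow 12 2058 (fun x => Nat.beq ((S, Si).1 x) (trace (([(S, Si)] : List TPair).map Prod.fst) x)) = true :=
  allBelow_of_upto (hi := 4096)
    (Upto.trans (mid := 2048) ((Upto.of_pow eq7_c0 (Nat.le_refl _)) : Upto _ _ 0 (0 + 2 ^ 11))
    ((Upto.of_pow eq7_c1 (Nat.le_refl _)) : Upto _ _ 2048 (2048 + 2 ^ 11)))
    (by decide) (by decide)
theorem inv7_c0 : allPow 2058 (invStep (S, Si).1 (S, Si).2 2058) 11 0 = true := by decide +kernel
theorem inv7_c1 : allPow 2058 (invStep (S, Si).1 (S, Si).2 2058) 11 2048 = true := by decide +kernel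
theorem inv7 : allBelow 12 2058 (invStep (S, Si).1 (S, Si).2 2058) = true :=
  allBelow_of_upto (hi := 4096)
    (Upto.trans (mid := 2048) ((Upto.of_pow inv7_c0 (Nat.le_refl _)) : Upto _ _ 0 (0 + 2 ^ 11))
    ((Upto.of_pow inv7_c1 (Nat.le_refl _)) : Upto _ _ 2048 (2048 + 2 ^ 11)))
    (by decide) (by decide)

theorem eq9_c0 : allPow 2058 (fun x => Nat.beq ((B9, B10).1 x) (trace (([(Si, S), (U, Ui), (W, W), (S, Si), (U, Ui), (W, W), (U, Ui), (Ui, U), (U, Ui), (Si, S), (Si, S), (W, W), (W, W), (S, Si), (S, Si), (Ui, U), (W, W), (Ui, U), (W, W)] : List TPair).map Prod.fst) x)) 9 0 = true := by decide +kernel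
theorem eq9_c1 : allPow 2058 (fun x => Nat.beq ((B9, B10).1 x) (trace (([(Si, S), (U, Ui), (W, W), (S, Si), (U, Ui), (W, W), (U, Ui), (Ui, U), (U, Ui), (Si, S), (Si, S), (W, W), (W, W), (S, Si), (S, Si), (Ui, U), (W, W), (Ui, U), (W, W)] : List TPair).map Prod.fst) x)) 9 512 = true := by decide +kernel
theorem eq9_c2 : allPow 2058 (fun x => Nat.beq ((B9, B10).1 x) (trace (([(Si, S), (U, Ui), (W, W), (S, Si), (U, Ui), (W, W), (U, Ui), (Ui, U), (U, Ui), (Si, S), (Si, S), (W, W), (W, W), (S, Si), (S, Si), (Ui, U), (W, W), (Ui, U), (W, W)] : List TPair).map Prod.fst) x)) 9 1024 = true := by decide +kernel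
theorem eq9_c3 : allPow 2058 (fun x => Nat.beq ((B9, B10).1 x) (trace (([(Si, S), (U, Ui), (W, W), (S, Si), (U, Ui), (W, W), (U, Ui), (Ui, U), (U, Ui), (Si, S), (Si, S), (W, W), (W, W), (S, Si), (S, Si), (Ui, U), (W, W), (Ui, U), (W, W)] : List TPair).map Prod.fst) x)) 9 1536 = true := by decide +kernel
theorem eq9_c4 : allPow 2058 (fun x => Nat.beq ((B9, B10).1 x) (trace (([(Si, S), (U, Ui), (W, W), (S, Si), (U, Ui), (W, W), (U, Ui), (Ui, U), (U, Ui), (Si, S), (Si, S), (W, W), (W, W), (S, Si), (S, Si), (Ui, U), (W, W), (Ui, U), (W, W)] : List TPair).map Prod.fst) x)) 9 2048 = true := by decide +kernel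
theorem eq9 : allBelow 12 2058 (fun x => Nat.beq ((B9, B10).1 x) (trace (([(Si, S), (U, Ui), (W, W), (S, Si), (U, Ui), (W, W), (U, Ui), (Ui, U), (U, Ui), (Si, S), (Si, S), (W, W), (W, W), (S, Si), (S, Si), (Ui, U), (W, W), (Ui, U), (W, W)] : List TPair).map Prod.fst) x)) = true :=
  allBelow_of_upto (hi := 2560)
    (Upto.trans (mid := 512) ((Upto.of_pow eq9_c0 (Nat.le_refl _)) : Upto _ _ 0 (0 + 2 ^ 9))
    (Upto.trans (mid := 1024) ((Upto.of_pow eq9_c1 (Nat.le_refl _)) : Upto _ _ 512 (512 + 2 ^ 9))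
    (Upto.trans (mid := 1536) ((Upto.of_pow eq9_c2 (Nat.le_refl _)) : Upto _ _ 1024 (1024 + 2 ^ 9))
    (Upto.trans (mid := 2048) ((Upto.of_pow eq9_c3 (Nat.le_refl _)) : Upto _ _ 1536 (1536 + 2 ^ 9))
    ((Upto.of_pow eq9_c4 (Nat.le_refl _)) : Upto _ _ 2048 (2048 + 2 ^ 9))))))
    (by decide) (by decide)
theorem inv9_c0 : allPow 2058 (invStep (B9, B10).1 (B9, B10).2 2058) 11 0 = true := by decide +kernel
theorem inv9_c1 : allPow 2058 (invStep (B9, B10).1 (B9, B10).2 2058) 11 2048 = true := by decide +kernel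
theorem inv9 : allBelow 12 2058 (invStep (B9, B10).1 (B9, B10).2 2058) = true :=
  allBelow_of_upto (hi := 4096)
    (Upto.trans (mid := 2048) ((Upto.of_pow inv9_c0 (Nat.le_refl _)) : Upto _ _ 0 (0 + 2 ^ 11))
    ((Upto.of_pow inv9_c1 (Nat.le_refl _)) : Upto _ _ 2048 (2048 + 2 ^ 11)))
    (by decide) (by decide)

theorem eq11_c0 : allPow 2058 (fun x => Nat.beq ((B11, B12).1 x) (trace (([(S, Si), (Si, S), (W, W), (Si, S), (Ui, U), (S, Si), (W, W), (U, Ui), (Ui, U), (Ui, U), (U, Ui), (W, W), (B9, B10), (W, W)] : List TPair).map Prod.fst) x)) 9 0 = true := by decide +kernel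
theorem eq11_c1 : allPow 2058 (fun x => Nat.beq ((B11, B12).1 x) (trace (([(S, Si), (Si, S), (W, W), (Si, S), (Ui, U), (S, Si), (W, W), (U, Ui), (Ui, U), (Ui, U), (U, Ui), (W, W), (B9, B10), (W, W)] : List TPair).map Prod.fst) x)) 9 512 = true := by decide +kernel
theorem eq11_c2 : allPow 2058 (fun x => Nat.beq ((B11, B12).1 x) (trace (([(S, Si), (Si, S), (W, W), (Si, S), (Ui, U), (S, Si), (W, W), (U, Ui), (Ui, U), (Ui, U), (U, Ui), (W, W), (B9, B10), (W, W)] : List TPair).map Prod.fst) x)) 9 1024 = true := by decide +kernel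
theorem eq11_c3 : allPow 2058 (fun x => Nat.beq ((B11, B12).1 x) (trace (([(S, Si), (Si, S), (W, W), (Si, S), (Ui, U), (S, Si), (W, W), (U, Ui), (Ui, U), (Ui, U), (U, Ui), (W, W), (B9, B10), (W, W)] : List TPair).map Prod.fst) x)) 9 1536 = true := by decide +kernel
theorem eq11_c4 : allPow 2058 (fun x => Nat.beq ((B11, B12).1 x) (trace (([(S, Si), (Si, S), (W, W), (Si, S), (Ui, U), (S, Si), (W, W), (U, Ui), (Ui, U), (Ui, U), (U, Ui), (W, W), (B9, B10), (W, W)] : List TPair).map Prod.fst) x)) 9 2048 = true := by decide +kernel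
theorem eq11 : allBelow 12 2058 (fun x => Nat.beq ((B11, B12).1 x) (trace (([(S, Si), (Si, S), (W, W), (Si, S), (Ui, U), (S, Si), (W, W), (U, Ui), (Ui, U), (Ui, U), (U, Ui), (W, W), (B9, B10), (W, W)] : List TPair).map Prod.fst) x)) = true :=
  allBelow_of_upto (hi := 2560)
    (Upto.trans (mid := 512) ((Upto.of_pow eq11_c0 (Nat.le_refl _)) : Upto _ _ 0 (0 + 2 ^ 9))
    (Upto.trans (mid := 1024) ((Upto.of_pow eq11_c1 (Nat.le_refl _)) : Upto _ _ 512 (512 + 2 ^ 9))
    (Upto.trans (mid := 1536) ((Upto.of_pow eq11_c2 (Nat.le_refl _)) : Upto _ _ 1024 (1024 + 2 ^ 9))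
    (Upto.trans (mid := 2048) ((Upto.of_pow eq11_c3 (Nat.le_refl _)) : Upto _ _ 1536 (1536 + 2 ^ 9))
    ((Upto.of_pow eq11_c4 (Nat.le_refl _)) : Upto _ _ 2048 (2048 + 2 ^ 9))))))
    (by decide) (by decide)
theorem inv11_c0 : allPow 2058 (invStep (B11, B12).1 (B11, B12).2 2058) 11 0 = true := by decide +kernel
theorem inv11_c1 : allPow 2058 (invStep (B11, B12).1 (B11, B12).2 2058) 11 2048 = true := by decide +kernel
theorem inv11 : allBelow 12 2058 (invStep (B11, B12).1 (B11, B12).2 2058) = true :=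
  allBelow_of_upto (hi := 4096)
    (Upto.trans (mid := 2048) ((Upto.of_pow inv11_c0 (Nat.le_refl _)) : Upto _ _ 0 (0 + 2 ^ 11))
    ((Upto.of_pow inv11_c1 (Nat.le_refl _)) : Upto _ _ 2048 (2048 + 2 ^ 11)))
    (by decide) (by decide)

theorem eq13_c0 : allPow 2058 (fun x => Nat.beq ((B13, B14).1 x) (trace (([(S, Si), (S, Si), (Ui, U), (Ui, U), (W, W), (U, Ui), (W, W), (Ui, U), (W, W), (S, Si), (Ui, U), (W, W), (Si, S), (S, Si), (Ui, U), (Si, S), (B11, B12), (Ui, U), (W, W), (Ui, U), (B10, B9), (W, W)] : List TPair).map Prod.fst) x)) 9 0 = true := by decide +kernel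
theorem eq13_c1 : allPow 2058 (fun x => Nat.beq ((B13, B14).1 x) (trace (([(S, Si), (S, Si), (Ui, U), (Ui, U), (W, W), (U, Ui), (W, W), (Ui, U), (W, W), (S, Si), (Ui, U), (W, W), (Si, S), (S, Si), (Ui, U), (Si, S), (B11, B12), (Ui, U), (W, W), (Ui, U), (B10, B9), (W, W)] : List TPair).map Prod.fst) x)) 9 512 = true := by decide +kernel
theorem eq13_c2 : allPow 2058 (fun x => Nat.beq ((B13, B14).1 x) (trace (([(S, Si), (S, Si), (Ui, U), (Ui, U), (W, W), (U, Ui), (W, W), (Ui, U), (W, W), (S, Si), (Ui, U), (W, W), (Si, S), (S, Si), (Ui, U), (Si, S), (B11, B12), (Ui, U), (W, W), (Ui, U), (B10, B9), (W, W)] : List TPair).map Prod.fst) x)) 9 1024 = true := by decide +kernel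
theorem eq13_c3 : allPow 2058 (fun x => Nat.beq ((B13, B14).1 x) (trace (([(S, Si), (S, Si), (Ui, U), (Ui, U), (W, W), (U, Ui), (W, W), (Ui, U), (W, W), (S, Si), (Ui, U), (W, W), (Si, S), (S, Si), (Ui, U), (Si, S), (B11, B12), (Ui, U), (W, W), (Ui, U), (B10, B9), (W, W)] : List TPair).map Prod.fst) x)) 9 1536 = true := by decide +kernel
theorem eq13_c4 : allPow 2058 (fun x => Nat.beq ((B13, B14).1 x) (trace (([(S, Si), (S, Si), (Ui, U), (Ui, U), (W, W), (U, Ui), (W, W), (Ui, U), (W, W), (S, Si), (Ui, U), (W, W), (Si, S), (S, Si), (Ui, U), (Si, S), (B11, B12), (Ui, U), (W, W), (Ui, U), (B10, B9), (W, W)] : List TPair).map Prod.fst) x)) 9 2048 = true := by decide +kernel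
theorem eq13 : allBelow 12 2058 (fun x => Nat.beq ((B13, B14).1 x) (trace (([(S, Si), (S, Si), (Ui, U), (Ui, U), (W, W), (U, Ui), (W, W), (Ui, U), (W, W), (S, Si), (Ui, U), (W, W), (Si, S), (S, Si), (Ui, U), (Si, S), (B11, B12), (Ui, U), (W, W), (Ui, U), (B10, B9), (W, W)] : List TPair).map Prod.fst) x)) = true :=
  allBelow_of_upto (hi := 2560)
    (Upto.trans (mid := 512) ((Upto.of_pow eq13_c0 (Nat.le_refl _)) : Upto _ _ 0 (0 + 2 ^ 9))
    (Upto.trans (mid := 1024) ((Upto.of_pow eq13_c1 (Nat.le_refl _)) : Upto _ _ 512 (512 + 2 ^ 9))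
    (Upto.trans (mid := 1536) ((Upto.of_pow eq13_c2 (Nat.le_refl _)) : Upto _ _ 1024 (1024 + 2 ^ 9))
    (Upto.trans (mid := 2048) ((Upto.of_pow eq13_c3 (Nat.le_refl _)) : Upto _ _ 1536 (1536 + 2 ^ 9))
    ((Upto.of_pow eq13_c4 (Nat.le_refl _)) : Upto _ _ 2048 (2048 + 2 ^ 9))))))
    (by decide) (by decide)
theorem inv13_c0 : allPow 2058 (invStep (B13, B14).1 (B13, B14).2 2058) 11 0 = true := by decide +kernel
theorem inv13_c1 : allPow 2058 (invStep (B13, B14).1 (B13, B14).2 2058) 11 2048 = true := by decide +kernel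
theorem inv13 : allBelow 12 2058 (invStep (B13, B14).1 (B13, B14).2 2058) = true :=
  allBelow_of_upto (hi := 4096)
    (Upto.trans (mid := 2048) ((Upto.of_pow inv13_c0 (Nat.le_refl _)) : Upto _ _ 0 (0 + 2 ^ 11))
    ((Upto.of_pow inv13_c1 (Nat.le_refl _)) : Upto _ _ 2048 (2048 + 2 ^ 11)))
    (by decide) (by decide)

theorem eq15_c0 : allPow 2058 (fun x => Nat.beq ((B15, B16).1 x) (trace (([(Si, S), (W, W), (S, Si), (U, Ui), (S, Si), (Si, S), (Si, S), (U, Ui), (Ui, U), (U, Ui), (Si, S), (S, Si), (Si, S), (B10, B9), (Ui, U), (B10, B9), (W, W)] : List TPair).map Prod.fst) x)) 9 0 = true := by decide +kernel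
theorem eq15_c1 : allPow 2058 (fun x => Nat.beq ((B15, B16).1 x) (trace (([(Si, S), (W, W), (S, Si), (U, Ui), (S, Si), (Si, S), (Si, S), (U, Ui), (Ui, U), (U, Ui), (Si, S), (S, Si), (Si, S), (B10, B9), (Ui, U), (B10, B9), (W, W)] : List TPair).map Prod.fst) x)) 9 512 = true := by decide +kernel
theorem eq15_c2 : allPow 2058 (fun x => Nat.beq ((B15, B16).1 x) (trace (([(Si, S), (W, W), (S, Si), (U, Ui), (S, Si), (Si, S), (Si, S), (U, Ui), (Ui, U), (U, Ui), (Si, S), (S, Si), (Si, S), (B10, B9), (Ui, U), (B10, B9), (W, W)] : List TPair).map Prod.fst) x)) 9 1024 = true := by decide +kernel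
theorem eq15_c3 : allPow 2058 (fun x => Nat.beq ((B15, B16).1 x) (trace (([(Si, S), (W, W), (S, Si), (U, Ui), (S, Si), (Si, S), (Si, S), (U, Ui), (Ui, U), (U, Ui), (Si, S), (S, Si), (Si, S), (B10, B9), (Ui, U), (B10, B9), (W, W)] : List TPair).map Prod.fst) x)) 9 1536 = true := by decide +kernel
theorem eq15_c4 : allPow 2058 (fun x => Nat.beq ((B15, B16).1 x) (trace (([(Si, S), (W, W), (S, Si), (U, Ui), (S, Si), (Si, S), (Si, S), (U, Ui), (Ui, U), (U, Ui), (Si, S), (S, Si), (Si, S), (B10, B9), (Ui, U), (B10, B9), (W, W)] : List TPair).map Prod.fst) x)) 9 2048 = true := by decide +kernel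
theorem eq15 : allBelow 12 2058 (fun x => Nat.beq ((B15, B16).1 x) (trace (([(Si, S), (W, W), (S, Si), (U, Ui), (S, Si), (Si, S), (Si, S), (U, Ui), (Ui, U), (U, Ui), (Si, S), (S, Si), (Si, S), (B10, B9), (Ui, U), (B10, B9), (W, W)] : List TPair).map Prod.fst) x)) = true :=
  allBelow_of_upto (hi := 2560)
    (Upto.trans (mid := 512) ((Upto.of_pow eq15_c0 (Nat.le_refl _)) : Upto _ _ 0 (0 + 2 ^ 9))
    (Upto.trans (mid := 1024) ((Upto.of_pow eq15_c1 (Nat.le_refl _)) : Upto _ _ 512 (512 + 2 ^ 9))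
    (Upto.trans (mid := 1536) ((Upto.of_pow eq15_c2 (Nat.le_refl _)) : Upto _ _ 1024 (1024 + 2 ^ 9))
    (Upto.trans (mid := 2048) ((Upto.of_pow eq15_c3 (Nat.le_refl _)) : Upto _ _ 1536 (1536 + 2 ^ 9))
    ((Upto.of_pow eq15_c4 (Nat.le_refl _)) : Upto _ _ 2048 (2048 + 2 ^ 9))))))
    (by decide) (by decide)
theorem inv15_c0 : allPow 2058 (invStep (B15, B16).1 (B15, B16).2 2058) 11 0 = true := by decide +kernel
theorem inv15_c1 : allPow 2058 (invStep (B15, B16).1 (B15, B16).2 2058) 11 2048 = true := by decide +kernel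
theorem inv15 : allBelow 12 2058 (invStep (B15, B16).1 (B15, B16).2 2058) = true :=
  allBelow_of_upto (hi := 4096)
    (Upto.trans (mid := 2048) ((Upto.of_pow inv15_c0 (Nat.le_refl _)) : Upto _ _ 0 (0 + 2 ^ 11))
    ((Upto.of_pow inv15_c1 (Nat.le_refl _)) : Upto _ _ 2048 (2048 + 2 ^ 11)))
    (by decide) (by decide)

theorem eq17_c0 : allPow 2058 (fun x => Nat.beq ((B17, B18).1 x) (trace (([(Ui, U), (Ui, U), (S, Si), (S, Si), (Si, S), (S, Si), (U, Ui), (Si, S), (S, Si), (Si, S), (W, W), (S, Si), (U, Ui), (Ui, U), (W, W), (B15, B16), (S, Si), (Ui, U), (B12, B11), (B16, B15), (S, Si)] : List TPair).map Prod.fst) x)) 9 0 = true := by decide +kernel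
theorem eq17_c1 : allPow 2058 (fun x => Nat.beq ((B17, B18).1 x) (trace (([(Ui, U), (Ui, U), (S, Si), (S, Si), (Si, S), (S, Si), (U, Ui), (Si, S), (S, Si), (Si, S), (W, W), (S, Si), (U, Ui), (Ui, U), (W, W), (B15, B16), (S, Si), (Ui, U), (B12, B11), (B16, B15), (S, Si)] : List TPair).map Prod.fst) x)) 9 512 = true := by decide +kernel
theorem eq17_c2 : allPow 2058 (fun x => Nat.beq ((B17, B18).1 x) (trace (([(Ui, U), (Ui, U), (S, Si), (S, Si), (Si, S), (S, Si), (U, Ui), (Si, S), (S, Si), (Si, S), (W, W), (S, Si), (U, Ui), (Ui, U), (W, W), (B15, B16), (S, Si), (Ui, U), (B12, B11), (B16, B15), (S, Si)] : List TPair).map Prod.fst) x)) 9 1024 = true := by decide +kernel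
theorem eq17_c3 : allPow 2058 (fun x => Nat.beq ((B17, B18).1 x) (trace (([(Ui, U), (Ui, U), (S, Si), (S, Si), (Si, S), (S, Si), (U, Ui), (Si, S), (S, Si), (Si, S), (W, W), (S, Si), (U, Ui), (Ui, U), (W, W), (B15, B16), (S, Si), (Ui, U), (B12, B11), (B16, B15), (S, Si)] : List TPair).map Prod.fst) x)) 9 1536 = true := by decide +kernel
theorem eq17_c4 : allPow 2058 (fun x => Nat.beq ((B17, B18).1 x) (trace (([(Ui, U), (Ui, U), (S, Si), (S, Si), (Si, S), (S, Si), (U, Ui), (Si, S), (S, Si), (Si, S), (W, W), (S, Si), (U, Ui), (Ui, U), (W, W), (B15, B16), (S, Si), (Ui, U), (B12, B11), (B16, B15), (S, Si)] : List TPair).map Prod.fst) x)) 9 2048 = true := by decide +kernel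
theorem eq17 : allBelow 12 2058 (fun x => Nat.beq ((B17, B18).1 x) (trace (([(Ui, U), (Ui, U), (S, Si), (S, Si), (Si, S), (S, Si), (U, Ui), (Si, S), (S, Si), (Si, S), (W, W), (S, Si), (U, Ui), (Ui, U), (W, W), (B15, B16), (S, Si), (Ui, U), (B12, B11), (B16, B15), (S, Si)] : List TPair).map Prod.fst) x)) = true :=
  allBelow_of_upto (hi := 2560)
    (Upto.trans (mid := 512) ((Upto.of_pow eq17_c0 (Nat.le_refl _)) : Upto _ _ 0 (0 + 2 ^ 9))
    (Upto.trans (mid := 1024) ((Upto.of_pow eq17_c1 (Nat.le_refl _)) : Upto _ _ 512 (512 + 2 ^ 9))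
    (Upto.trans (mid := 1536) ((Upto.of_pow eq17_c2 (Nat.le_refl _)) : Upto _ _ 1024 (1024 + 2 ^ 9))
    (Upto.trans (mid := 2048) ((Upto.of_pow eq17_c3 (Nat.le_refl _)) : Upto _ _ 1536 (1536 + 2 ^ 9))
    ((Upto.of_pow eq17_c4 (Nat.le_refl _)) : Upto _ _ 2048 (2048 + 2 ^ 9))))))
    (by decide) (by decide)
theorem inv17_c0 : allPow 2058 (invStep (B17, B18).1 (B17, B18).2 2058) 11 0 = true := by decide +kernel
theorem inv17_c1 : allPow 2058 (invStep (B17, B18).1 (B17, B18).2 2058) 11 2048 = true := by decide +kernel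
theorem inv17 : allBelow 12 2058 (invStep (B17, B18).1 (B17, B18).2 2058) = true :=
  allBelow_of_upto (hi := 4096)
    (Upto.trans (mid := 2048) ((Upto.of_pow inv17_c0 (Nat.le_refl _)) : Upto _ _ 0 (0 + 2 ^ 11))
    ((Upto.of_pow inv17_c1 (Nat.le_refl _)) : Upto _ _ 2048 (2048 + 2 ^ 11)))
    (by decide) (by decide)

theorem eq19_c0 : allPow 2058 (fun x => Nat.beq ((B19, B20).1 x) (trace (([(Si, S), (U, Ui), (W, W), (Si, S), (U, Ui), (W, W), (U, Ui), (Si, S), (Si, S), (S, Si), (W, W), (U, Ui), (W, W), (Ui, U), (Si, S), (B13, B14), (B16, B15), (U, Ui), (W, W), (Ui, U), (B13, B14), (B9, B10)] : List TPair).map Prod.fst) x)) 9 0 = true := by decide +kernel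
theorem eq19_c1 : allPow 2058 (fun x => Nat.beq ((B19, B20).1 x) (trace (([(Si, S), (U, Ui), (W, W), (Si, S), (U, Ui), (W, W), (U, Ui), (Si, S), (Si, S), (S, Si), (W, W), (U, Ui), (W, W), (Ui, U), (Si, S), (B13, B14), (B16, B15), (U, Ui), (W, W), (Ui, U), (B13, B14), (B9, B10)] : List TPair).map Prod.fst) x)) 9 512 = true := by decide +kernel
theorem eq19_c2 : allPow 2058 (fun x => Nat.beq ((B19, B20).1 x) (trace (([(Si, S), (U, Ui), (W, W), (Si, S), (U, Ui), (W, W), (U, Ui), (Si, S), (Si, S), (S, Si), (W, W), (U, Ui), (W, W), (Ui, U), (Si, S), (B13, B14), (B16, B15), (U, Ui), (W, W), (Ui, U), (B13, B14), (B9, B10)] : List TPair).map Prod.fst) x)) 9 1024 = true := by decide +kernel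
theorem eq19_c3 : allPow 2058 (fun x => Nat.beq ((B19, B20).1 x) (trace (([(Si, S), (U, Ui), (W, W), (Si, S), (U, Ui), (W, W), (U, Ui), (Si, S), (Si, S), (S, Si), (W, W), (U, Ui), (W, W), (Ui, U), (Si, S), (B13, B14), (B16, B15), (U, Ui), (W, W), (Ui, U), (B13, B14), (B9, B10)] : List TPair).map Prod.fst) x)) 9 1536 = true := by decide +kernel
theorem eq19_c4 : allPow 2058 (fun x => Nat.beq ((B19, B20).1 x) (trace (([(Si, S), (U, Ui), (W, W), (Si, S), (U, Ui), (W, W), (U, Ui), (Si, S), (Si, S), (S, Si), (W, W), (U, Ui), (W, W), (Ui, U), (Si, S), (B13, B14), (B16, B15), (U, Ui), (W, W), (Ui, U), (B13, B14), (B9, B10)] : List TPair).map Prod.fst) x)) 9 2048 = true := by decide +kernel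
theorem eq19 : allBelow 12 2058 (fun x => Nat.beq ((B19, B20).1 x) (trace (([(Si, S), (U, Ui), (W, W), (Si, S), (U, Ui), (W, W), (U, Ui), (Si, S), (Si, S), (S, Si), (W, W), (U, Ui), (W, W), (Ui, U), (Si, S), (B13, B14), (B16, B15), (U, Ui), (W, W), (Ui, U), (B13, B14), (B9, B10)] : List TPair).map Prod.fst) x)) = true :=
  allBelow_of_upto (hi := 2560)
    (Upto.trans (mid := 512) ((Upto.of_pow eq19_c0 (Nat.le_refl _)) : Upto _ _ 0 (0 + 2 ^ 9))
    (Upto.trans (mid := 1024) ((Upto.of_pow eq19_c1 (Nat.le_refl _)) : Upto _ _ 512 (512 + 2 ^ 9))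
    (Upto.trans (mid := 1536) ((Upto.of_pow eq19_c2 (Nat.le_refl _)) : Upto _ _ 1024 (1024 + 2 ^ 9))
    (Upto.trans (mid := 2048) ((Upto.of_pow eq19_c3 (Nat.le_refl _)) : Upto _ _ 1536 (1536 + 2 ^ 9))
    ((Upto.of_pow eq19_c4 (Nat.le_refl _)) : Upto _ _ 2048 (2048 + 2 ^ 9))))))
    (by decide) (by decide)
theorem inv19_c0 : allPow 2058 (invStep (B19, B20).1 (B19, B20).2 2058) 11 0 = true := by decide +kernel
theorem inv19_c1 : allPow 2058 (invStep (B19, B20).1 (B19, B20).2 2058) 11 2048 = true := by decide +kernel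
theorem inv19 : allBelow 12 2058 (invStep (B19, B20).1 (B19, B20).2 2058) = true :=
  allBelow_of_upto (hi := 4096)
    (Upto.trans (mid := 2048) ((Upto.of_pow inv19_c0 (Nat.le_refl _)) : Upto _ _ 0 (0 + 2 ^ 11))
    ((Upto.of_pow inv19_c1 (Nat.le_refl _)) : Upto _ _ 2048 (2048 + 2 ^ 11)))
    (by decide) (by decide)

theorem eq21_c0 : allPow 2058 (fun x => Nat.beq ((B21, B21).1 x) (trace (([(S, Si), (U, Ui), (Ui, U), (Ui, U), (Si, S), (U, Ui), (S, Si), (W, W), (Si, S), (W, W), (S, Si), (Ui, U), (W, W), (S, Si), (W, W), (Ui, U), (B10, B9), (B20, B19), (B11, B12)] : List TPair).map Prod.fst) x)) 9 0 = true := by decide +kernel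
theorem eq21_c1 : allPow 2058 (fun x => Nat.beq ((B21, B21).1 x) (trace (([(S, Si), (U, Ui), (Ui, U), (Ui, U), (Si, S), (U, Ui), (S, Si), (W, W), (Si, S), (W, W), (S, Si), (Ui, U), (W, W), (S, Si), (W, W), (Ui, U), (B10, B9), (B20, B19), (B11, B12)] : List TPair).map Prod.fst) x)) 9 512 = true := by decide +kernel
theorem eq21_c2 : allPow 2058 (fun x => Nat.beq ((B21, B21).1 x) (trace (([(S, Si), (U, Ui), (Ui, U), (Ui, U), (Si, S), (U, Ui), (S, Si), (W, W), (Si, S), (W, W), (S, Si), (Ui, U), (W, W), (S, Si), (W, W), (Ui, U), (B10, B9), (B20, B19), (B11, B12)] : List TPair).map Prod.fst) x)) 9 1024 = true := by decide +kernel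
theorem eq21_c3 : allPow 2058 (fun x => Nat.beq ((B21, B21).1 x) (trace (([(S, Si), (U, Ui), (Ui, U), (Ui, U), (Si, S), (U, Ui), (S, Si), (W, W), (Si, S), (W, W), (S, Si), (Ui, U), (W, W), (S, Si), (W, W), (Ui, U), (B10, B9), (B20, B19), (B11, B12)] : List TPair).map Prod.fst) x)) 9 1536 = true := by decide +kernel
theorem eq21_c4 : allPow 2058 (fun x => Nat.beq ((B21, B21).1 x) (trace (([(S, Si), (U, Ui), (Ui, U), (Ui, U), (Si, S), (U, Ui), (S, Si), (W, W), (Si, S), (W, W), (S, Si), (Ui, U), (W, W), (S, Si), (W, W), (Ui, U), (B10, B9), (B20, B19), (B11, B12)] : List TPair).map Prod.fst) x)) 9 2048 = true := by decide +kernel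
theorem eq21 : allBelow 12 2058 (fun x => Nat.beq ((B21, B21).1 x) (trace (([(S, Si), (U, Ui), (Ui, U), (Ui, U), (Si, S), (U, Ui), (S, Si), (W, W), (Si, S), (W, W), (S, Si), (Ui, U), (W, W), (S, Si), (W, W), (Ui, U), (B10, B9), (B20, B19), (B11, B12)] : List TPair).map Prod.fst) x)) = true :=
  allBelow_of_upto (hi := 2560)
    (Upto.trans (mid := 512) ((Upto.of_pow eq21_c0 (Nat.le_refl _)) : Upto _ _ 0 (0 + 2 ^ 9))
    (Upto.trans (mid := 1024) ((Upto.of_pow eq21_c1 (Nat.le_refl _)) : Upto _ _ 512 (512 + 2 ^ 9))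
    (Upto.trans (mid := 1536) ((Upto.of_pow eq21_c2 (Nat.le_refl _)) : Upto _ _ 1024 (1024 + 2 ^ 9))
    (Upto.trans (mid := 2048) ((Upto.of_pow eq21_c3 (Nat.le_refl _)) : Upto _ _ 1536 (1536 + 2 ^ 9))
    ((Upto.of_pow eq21_c4 (Nat.le_refl _)) : Upto _ _ 2048 (2048 + 2 ^ 9))))))
    (by decide) (by decide)
theorem inv21_c0 : allPow 2058 (invStep (B21, B21).1 (B21, B21).2 2058) 11 0 = true := by decide +kernel
theorem inv21_c1 : allPow 2058 (invStep (B21, B21).1 (B21, B21).2 2058) 11 2048 = true := by decide +kernel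
theorem inv21 : allBelow 12 2058 (invStep (B21, B21).1 (B21, B21).2 2058) = true :=
  allBelow_of_upto (hi := 4096)
    (Upto.trans (mid := 2048) ((Upto.of_pow inv21_c0 (Nat.le_refl _)) : Upto _ _ 0 (0 + 2 ^ 11))
    ((Upto.of_pow inv21_c1 (Nat.le_refl _)) : Upto _ _ 2048 (2048 + 2 ^ 11)))
    (by decide) (by decide)

theorem eq22_c0 : allPow 2058 (fun x => Nat.beq ((B22, B23).1 x) (trace (([(S, Si), (U, Ui), (W, W), (W, W), (U, Ui), (U, Ui), (S, Si), (S, Si), (Si, S), (S, Si), (Si, S), (U, Ui), (W, W), (Ui, U), (U, Ui), (W, W), (U, Ui), (S, Si), (U, Ui), (B21, B21), (B11, B12)] : List TPair).map Prod.fst) x)) 9 0 = true := by decide +kernel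
theorem eq22_c1 : allPow 2058 (fun x => Nat.beq ((B22, B23).1 x) (trace (([(S, Si), (U, Ui), (W, W), (W, W), (U, Ui), (U, Ui), (S, Si), (S, Si), (Si, S), (S, Si), (Si, S), (U, Ui), (W, W), (Ui, U), (U, Ui), (W, W), (U, Ui), (S, Si), (U, Ui), (B21, B21), (B11, B12)] : List TPair).map Prod.fst) x)) 9 512 = true := by decide +kernel
theorem eq22_c2 : allPow 2058 (fun x => Nat.beq ((B22, B23).1 x) (trace (([(S, Si), (U, Ui), (W, W), (W, W), (U, Ui), (U, Ui), (S, Si), (S, Si), (Si, S), (S, Si), (Si, S), (U, Ui), (W, W), (Ui, U), (U, Ui), (W, W), (U, Ui), (S, Si), (U, Ui), (B21, B21), (B11, B12)] : List TPair).map Prod.fst) x)) 9 1024 = true := by decide +kernel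
theorem eq22_c3 : allPow 2058 (fun x => Nat.beq ((B22, B23).1 x) (trace (([(S, Si), (U, Ui), (W, W), (W, W), (U, Ui), (U, Ui), (S, Si), (S, Si), (Si, S), (S, Si), (Si, S), (U, Ui), (W, W), (Ui, U), (U, Ui), (W, W), (U, Ui), (S, Si), (U, Ui), (B21, B21), (B11, B12)] : List TPair).map Prod.fst) x)) 9 1536 = true := by decide +kernel
theorem eq22_c4 : allPow 2058 (fun x => Nat.beq ((B22, B23).1 x) (trace (([(S, Si), (U, Ui), (W, W), (W, W), (U, Ui), (U, Ui), (S, Si), (S, Si), (Si, S), (S, Si), (Si, S), (U, Ui), (W, W), (Ui, U), (U, Ui), (W, W), (U, Ui), (S, Si), (U, Ui), (B21, B21), (B11, B12)] : List TPair).map Prod.fst) x)) 9 2048 = true := by decide +kernel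
theorem eq22 : allBelow 12 2058 (fun x => Nat.beq ((B22, B23).1 x) (trace (([(S, Si), (U, Ui), (W, W), (W, W), (U, Ui), (U, Ui), (S, Si), (S, Si), (Si, S), (S, Si), (Si, S), (U, Ui), (W, W), (Ui, U), (U, Ui), (W, W), (U, Ui), (S, Si), (U, Ui), (B21, B21), (B11, B12)] : List TPair).map Prod.fst) x)) = true :=
  allBelow_of_upto (hi := 2560)
    (Upto.trans (mid := 512) ((Upto.of_pow eq22_c0 (Nat.le_refl _)) : Upto _ _ 0 (0 + 2 ^ 9))
    (Upto.trans (mid := 1024) ((Upto.of_pow eq22_c1 (Nat.le_refl _)) : Upto _ _ 512 (512 + 2 ^ 9))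
    (Upto.trans (mid := 1536) ((Upto.of_pow eq22_c2 (Nat.le_refl _)) : Upto _ _ 1024 (1024 + 2 ^ 9))
    (Upto.trans (mid := 2048) ((Upto.of_pow eq22_c3 (Nat.le_refl _)) : Upto _ _ 1536 (1536 + 2 ^ 9))
    ((Upto.of_pow eq22_c4 (Nat.le_refl _)) : Upto _ _ 2048 (2048 + 2 ^ 9))))))
    (by decide) (by decide)
theorem inv22_c0 : allPow 2058 (invStep (B22, B23).1 (B22, B23).2 2058) 11 0 = true := by decide +kernel
theorem inv22_c1 : allPow 2058 (invStep (B22, B23).1 (B22, B23).2 2058) 11 2048 = true := by decide +kernel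
theorem inv22 : allBelow 12 2058 (invStep (B22, B23).1 (B22, B23).2 2058) = true :=
  allBelow_of_upto (hi := 4096)
    (Upto.trans (mid := 2048) ((Upto.of_pow inv22_c0 (Nat.le_refl _)) : Upto _ _ 0 (0 + 2 ^ 11))
    ((Upto.of_pow inv22_c1 (Nat.le_refl _)) : Upto _ _ 2048 (2048 + 2 ^ 11)))
    (by decide) (by decide)

theorem orbOK0 : lev0.orbOK 2058 = true := by decide +kernel
theorem orbOK1 : lev1.orbOK 2058 = true := by decide +kernel
theorem orbOK2 : lev2.orbOK 2058 = true := by decide +kernel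
theorem orbOK3 : lev3.orbOK 2058 = true := by decide +kernel
theorem orbOK4 : lev4.orbOK 2058 = true := by decide +kernel

theorem prod_eq : prodLen [lev0, lev1, lev2, lev3, lev4] = 4030387200 := by decide +kernel

variable {G : Type*} [Group G] {ψ : G →* Equiv.Perm (Fin 2058)}

theorem chain {H : Subgroup G} (h_U : Real ψ H [] (U, Ui)) (h_S : Real ψ H [] (S, Si))
    (h_W : Real ψ H [] (W, Wi)) : Chain ψ H [lev0, lev1, lev2, lev3, lev4] [] := by
  have h5 : Real ψ H [0] (U, Ui) := by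
    refine Real.new (prev := []) (ps := [(U, Ui)]) ?_ eq5 inv5 (by decide +kernel)
    simp only [List.forall_mem_cons, List.not_mem_nil, false_implies, implies_true, and_true]
    exact (h_U).drop
  have h7 : Real ψ H [0, 576] (S, Si) := by
    refine Real.new (prev := []) (ps := [(S, Si)]) ?_ eq7 inv7 (by decide +kernel)
    simp only [List.forall_mem_cons, List.not_mem_nil, false_implies, implies_true, and_true]
    exact (h_S).drop
  have h9 : Real ψ H [0] (B9, B10) := by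
    refine Real.new (prev := []) (ps := [(Si, S), (U, Ui), (W, W), (S, Si), (U, Ui), (W, W), (U, Ui), (Ui, U), (U, Ui), (Si, S), (Si, S), (W, W), (W, W), (S, Si), (S, Si), (Ui, U), (W, W), (Ui, U), (W, W)]) ?_ eq9 inv9 (by decide +kernel)
    simp only [List.forall_mem_cons, List.not_mem_nil, false_implies, implies_true, and_true]
    exact ⟨(h_S.symm).drop, (h_U).drop, (h_W).drop, (h_S).drop, (h_U).drop, (h_W).drop, (h_U).drop, (h_U.symm).drop, (h_U).drop, (h_S.symm).drop, (h_S.symm).drop, (h_W).drop, (h_W).drop, (h_S).drop, (h_S).drop, (h_U.symm).drop, (h_W).drop, (h_U.symm).drop, (h_W).drop⟩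
  have h11 : Real ψ H [0, 576] (B11, B12) := by
    refine Real.new (prev := []) (ps := [(S, Si), (Si, S), (W, W), (Si, S), (Ui, U), (S, Si), (W, W), (U, Ui), (Ui, U), (Ui, U), (U, Ui), (W, W), (B9, B10), (W, W)]) ?_ eq11 inv11 (by decide +kernel)
    simp only [List.forall_mem_cons, List.not_mem_nil, false_implies, implies_true, and_true]
    exact ⟨(h_S).drop, (h_S.symm).drop, (h_W).drop, (h_S.symm).drop, (h_U.symm).drop, (h_S).drop, (h_W).drop, (h_U).drop, (h_U.symm).drop, (h_U.symm).drop, (h_U).drop, (h_W).drop, (h9).drop, (h_W).drop⟩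
  have h13 : Real ψ H [0] (B13, B14) := by
    refine Real.new (prev := []) (ps := [(S, Si), (S, Si), (Ui, U), (Ui, U), (W, W), (U, Ui), (W, W), (Ui, U), (W, W), (S, Si), (Ui, U), (W, W), (Si, S), (S, Si), (Ui, U), (Si, S), (B11, B12), (Ui, U), (W, W), (Ui, U), (B10, B9), (W, W)]) ?_ eq13 inv13 (by decide +kernel)
    simp only [List.forall_mem_cons, List.not_mem_nil, false_implies, implies_true, and_true]
    exact ⟨(h_S).drop, (h_S).drop, (h_U.symm).drop, (h_U.symm).drop, (h_W).drop, (h_U).drop, (h_W).drop, (h_U.symm).drop, (h_W).drop, (h_S).drop, (h_U.symm).drop, (h_W).drop, (h_S.symm).drop, (h_S).drop, (h_U.symm).drop, (h_S.symm).drop, (h11).drop, (h_U.symm).drop, (h_W).drop, (h_U.symm).drop, (h9.symm).drop, (h_W).drop⟩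
  have h15 : Real ψ H [0, 576] (B15, B16) := by
    refine Real.new (prev := []) (ps := [(Si, S), (W, W), (S, Si), (U, Ui), (S, Si), (Si, S), (Si, S), (U, Ui), (Ui, U), (U, Ui), (Si, S), (S, Si), (Si, S), (B10, B9), (Ui, U), (B10, B9), (W, W)]) ?_ eq15 inv15 (by decide +kernel)
    simp only [List.forall_mem_cons, List.not_mem_nil, false_implies, implies_true, and_true]
    exact ⟨(h_S.symm).drop, (h_W).drop, (h_S).drop, (h_U).drop, (h_S).drop, (h_S.symm).drop, (h_S.symm).drop, (h_U).drop, (h_U.symm).drop, (h_U).drop, (h_S.symm).drop, (h_S).drop, (h_S.symm).drop, (h9.symm).drop, (h_U.symm).drop, (h9.symm).drop, (h_W).drop⟩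
  have h17 : Real ψ H [0, 576, 885] (B17, B18) := by
    refine Real.new (prev := []) (ps := [(Ui, U), (Ui, U), (S, Si), (S, Si), (Si, S), (S, Si), (U, Ui), (Si, S), (S, Si), (Si, S), (W, W), (S, Si), (U, Ui), (Ui, U), (W, W), (B15, B16), (S, Si), (Ui, U), (B12, B11), (B16, B15), (S, Si)]) ?_ eq17 inv17 (by decide +kernel)
    simp only [List.forall_mem_cons, List.not_mem_nil, false_implies, implies_true, and_true]
    exact ⟨(h_U.symm).drop, (h_U.symm).drop, (h_S).drop, (h_S).drop, (h_S.symm).drop, (h_S).drop, (h_U).drop, (h_S.symm).drop, (h_S).drop, (h_S.symm).drop, (h_W).drop, (h_S).drop, (h_U).drop, (h_U.symm).drop, (h_W).drop, (h15).drop, (h7).drop, (h5.symm).drop, (h11.symm).drop, (h15.symm).drop, (h7).drop⟩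
  have h19 : Real ψ H [0, 576] (B19, B20) := by
    refine Real.new (prev := []) (ps := [(Si, S), (U, Ui), (W, W), (Si, S), (U, Ui), (W, W), (U, Ui), (Si, S), (Si, S), (S, Si), (W, W), (U, Ui), (W, W), (Ui, U), (Si, S), (B13, B14), (B16, B15), (U, Ui), (W, W), (Ui, U), (B13, B14), (B9, B10)]) ?_ eq19 inv19 (by decide +kernel)
    simp only [List.forall_mem_cons, List.not_mem_nil, false_implies, implies_true, and_true]
    exact ⟨(h_S.symm).drop, (h_U).drop, (h_W).drop, (h_S.symm).drop, (h_U).drop, (h_W).drop, (h_U).drop, (h_S.symm).drop, (h_S.symm).drop, (h_S).drop, (h_W).drop, (h_U).drop, (h_W).drop, (h_U.symm).drop, (h_S.symm).drop, (h13).drop, (h15.symm).drop, (h_U).drop, (h_W).drop, (h5.symm).drop, (h13).drop, (h9).drop⟩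
  have h21 : Real ψ H [0, 576, 885, 85] (B21, B21) := by
    refine Real.new (prev := []) (ps := [(S, Si), (U, Ui), (Ui, U), (Ui, U), (Si, S), (U, Ui), (S, Si), (W, W), (Si, S), (W, W), (S, Si), (Ui, U), (W, W), (S, Si), (W, W), (Ui, U), (B10, B9), (B20, B19), (B11, B12)]) ?_ eq21 inv21 (by decide +kernel)
    simp only [List.forall_mem_cons, List.not_mem_nil, false_implies, implies_true, and_true]
    exact ⟨(h_S).drop, (h_U).drop, (h_U.symm).drop, (h_U.symm).drop, (h_S.symm).drop, (h_U).drop, (h_S).drop, (h_W).drop, (h_S.symm).drop, (h_W).drop, (h_S).drop, (h_U.symm).drop, (h_W).drop, (h_S).drop, (h_W).drop, (h5.symm).drop, (h9.symm).drop, (h19.symm).drop, (h11).drop⟩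
  have h22 : Real ψ H [0, 576, 885] (B22, B23) := by
    refine Real.new (prev := []) (ps := [(S, Si), (U, Ui), (W, W), (W, W), (U, Ui), (U, Ui), (S, Si), (S, Si), (Si, S), (S, Si), (Si, S), (U, Ui), (W, W), (Ui, U), (U, Ui), (W, W), (U, Ui), (S, Si), (U, Ui), (B21, B21), (B11, B12)]) ?_ eq22 inv22 (by decide +kernel)
    simp only [List.forall_mem_cons, List.not_mem_nil, false_implies, implies_true, and_true]
    exact ⟨(h_S).drop, (h_U).drop, (h_W).drop, (h_W).drop, (h_U).drop, (h_U).drop, (h_S).drop, (h_S).drop, (h_S.symm).drop, (h_S).drop, (h_S.symm).drop, (h_U).drop, (h_W).drop, (h_U.symm).drop, (h_U).drop, (h_W).drop, (h5).drop, (h7).drop, (h5).drop, (h21).drop, (h11).drop⟩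
  refine ⟨orbOK0, ?_, orbOK1, ?_, orbOK2, ?_, orbOK3, ?_, orbOK4, ?_, trivial⟩
  · simp only [show lev0.gens = [(U, Ui), (Ui, U), (S, Si), (Si, S), (W, W), (U, Ui), (Ui, U), (S, Si), (Si, S), (B9, B10), (B10, B9), (B11, B12), (B12, B11), (B13, B14), (B14, B13), (B15, B16), (B16, B15), (B17, B18), (B18, B17), (B19, B20), (B20, B19), (B21, B21), (B22, B23), (B23, B22)] from rfl, List.forall_mem_cons, List.not_mem_nil, false_implies, implies_true, and_true]
    exact ⟨h_U, h_U.symm, h_S, h_S.symm, h_W, (h5).weaken (by decide), (h5.symm).weaken (by decide), (h7).weaken (by decide), (h7.symm).weaken (by decide), (h9).weaken (by decide), (h9.symm).weaken (by decide), (h11).weaken (by decide), (h11.symm).weaken (by decide), (h13).weaken (by decide), (h13.symm).weaken (by decide), (h15).weaken (by decide), (h15.symm).weaken (by decide), (h17).weaken (by decide), (h17.symm).weaken (by decide), (h19).weaken (by decide), (h19.symm).weaken (by decide), (h21).weaken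 (by decide), (h22).weaken (by decide), (h22.symm).weaken (by decide)⟩
  · simp only [show lev1.gens = [(U, Ui), (Ui, U), (S, Si), (Si, S), (B9, B10), (B10, B9), (B11, B12), (B12, B11), (B13, B14), (B14, B13), (B15, B16), (B16, B15), (B17, B18), (B18, B17), (B19, B20), (B20, B19), (B21, B21), (B22, B23), (B23, B22)] from rfl, List.forall_mem_cons, List.not_mem_nil, false_implies, implies_true, and_true]
    exact ⟨h5, h5.symm, (h7).weaken (by decide), (h7.symm).weaken (by decide), h9, h9.symm, (h11).weaken (by decide), (h11.symm).weaken (by decide), h13, h13.symm, (h15).weaken (by decide), (h15.symm).weaken (by decide), (h17).weaken (by decide), (h17.symm).weaken (by decide), (h19).weaken (by decide), (h19.symm).weaken (by decide), (h21).weaken (by decide), (h22).weaken (by decide), (h22.symm).weaken (by decide)⟩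
  · simp only [show lev2.gens = [(S, Si), (Si, S), (B11, B12), (B12, B11), (B15, B16), (B16, B15), (B17, B18), (B18, B17), (B19, B20), (B20, B19), (B21, B21), (B22, B23), (B23, B22)] from rfl, List.forall_mem_cons, List.not_mem_nil, false_implies, implies_true, and_true]
    exact ⟨h7, h7.symm, h11, h11.symm, h15, h15.symm, (h17).weaken (by decide), (h17.symm).weaken (by decide), h19, h19.symm, (h21).weaken (by decide), (h22).weaken (by decide), (h22.symm).weaken (by decide)⟩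
  · simp only [show lev3.gens = [(B17, B18), (B18, B17), (B21, B21), (B22, B23), (B23, B22)] from rfl, List.forall_mem_cons, List.not_mem_nil, false_implies, implies_true, and_true]
    exact ⟨h17, h17.symm, (h21).weaken (by decide), h22, h22.symm⟩
  · simp only [show lev4.gens = [(B21, B21)] from rfl, List.forall_mem_cons, List.not_mem_nil, false_implies, implies_true, and_true]
    exact h21

end CfsgLib.OutPresented.He
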