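import Cfsg.Agent.Lib.OutPresented.He.Data

/-! Generated: backtrack search S. -/

set_option autoImplicit false
set_option maxRecDepth 20000
set_option linter.all false
set_option Elab.async false

namespace CfsgLib.OutPresented.He

theorem plan_S : planOK (data.consU data.k) data.planS [] = true := by decide +kernel

theorem search_S : search (data.consU data.k) data.base data.goodS data.planS (fun x => x) (fun x => x) = true := by
  decide +kernel

end CfsgLib.OutPresented.He
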