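import Cfsg.Agent.Lib.OutPresented.He.Data

/-! Generated: small checks. -/

set_option autoImplicit false
set_option maxRecDepth 20000
set_option linter.all false
set_option Elab.async false

namespace CfsgLib.OutPresented.He

open CfsgLib.SporRecognition.CosetCert

theorem basic : data.basicOK = true := by decide +kernel

theorem sig_ok_c0 : allPow 2058 data.sigStep 9 0 = true := by decide +kernel
theorem sig_ok_c1 : allPow 2058 data.sigStep 9 512 = true := by decide +kernel
theorem sig_ok_c2 : allPow 2058 data.sigStep 9 1024 = true := by decide +kernel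
theorem sig_ok_c3 : allPow 2058 data.sigStep 9 1536 = true := by decide +kernel
theorem sig_ok_c4 : allPow 2058 data.sigStep 9 2048 = true := by decide +kernel
theorem sig_ok : allBelow 12 2058 data.sigStep = true :=
  allBelow_of_upto (hi := 2560)
    (Upto.trans (mid := 512) ((Upto.of_pow sig_ok_c0 (Nat.le_refl _)) : Upto _ _ 0 (0 + 2 ^ 9))
    (Upto.trans (mid := 1024) ((Upto.of_pow sig_ok_c1 (Nat.le_refl _)) : Upto _ _ 512 (512 + 2 ^ 9))
    (Upto.trans (mid := 1536) ((Upto.of_pow sig_ok_c2 (Nat.le_refl _)) : Upto _ _ 1024 (1024 + 2 ^ 9))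
    (Upto.trans (mid := 2048) ((Upto.of_pow sig_ok_c3 (Nat.le_refl _)) : Upto _ _ 1536 (1536 + 2 ^ 9))
    ((Upto.of_pow sig_ok_c4 (Nat.le_refl _)) : Upto _ _ 2048 (2048 + 2 ^ 9))))))
    (by decide) (by decide)

end CfsgLib.OutPresented.He
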