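import Cfsg.Agent.Lib.OutPresented.He.Seeds
import Cfsg.Agent.Lib.OutPresented.He.Chain
import Cfsg.Agent.Lib.OutPresented.He.SearchS
import Cfsg.Agent.Lib.OutPresented.He.SearchN
import Cfsg.Agent.Lib.OutPresented.He.SearchC
import Cfsg.Agent.Lib.OutPresented.He.Small
import Cfsg.Agent.S1695

/-! The outer automorphism group of He has order two. -/

set_option autoImplicit false
set_option maxRecDepth 20000
set_option linter.all false
set_option Elab.async false

namespace CfsgLib.OutPresented.He

open CfsgLib.SporRecognition.CosetCert CfsgLib.SporRecognition.Cert.He2058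

theorem valid : data.Valid 12 where
  base_lt := by decide +kernel
  base_S := rfl
  base_N := rfl
  base_C := rfl
  basic := basic
  sig_ok := sig_ok
  plan_S := plan_S
  plan_N := plan_N
  plan_C := plan_C
  search_S := search_S
  search_N := search_N
  search_C := search_C

theorem natCard_out : Nat.card (Cfsg.Out Cfsg.Spor.He) = 2 := by
  obtain ⟨hsimp, hcard⟩ := Cfsg.Agent.S1695.result
  have hcard' : Nat.card Cfsg.Spor.He = 4030387200 := hcard
  haveI := hsimp
  haveI : Finite Cfsg.Spor.He := Nat.finite_of_card_ne_zero (by rw [hcard']; norm_num)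
  let ψ : Cfsg.Spor.He →* Equiv.Perm (Fin 2058) := certified.hom
  have hgen : ∀ a : Cfsg.Spor.He.Gen, Tab ψ (PresentedGroup.of a) (tabs a true) := fun a x => by
    show ((certified.hom (PresentedGroup.of a) x : Fin 2058) : Nat) = _
    rw [Certified.hom, PresentedGroup.toGroup.of, tabPerm_val]
  have hinj : Function.Injective ψ := by
    rcases hsimp.eq_bot_or_eq_top_of_normal ψ.ker inferInstance with h | h
    · exact (MonoidHom.ker_eq_bot_iff ψ).1 h
    · exfalso
      have h1 : ψ (PresentedGroup.of .a) = 1 := MonoidHom.mem_ker.1 (h ▸ Subgroup.mem_top _)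
      have h2 : ∀ x : Fin 2058, tabs .a true x = (x : Nat) := fun x => by rw [← hgen .a x, h1]; rfl
      exact absurd (h2 ⟨5, by norm_num⟩) (by decide +kernel)
  have hT : ∀ a : Cfsg.Spor.He.Gen, Real ψ ⊤ [] (tabs a true, tabs a true) := fun a =>
    ⟨_, Subgroup.mem_top _, fun _ h => absurd h (List.not_mem_nil), hgen a, fun x => by
      show ((certified.hom (PresentedGroup.of a)⁻¹ x : Fin 2058) : Nat) = _
      rw [map_inv, Certified.hom, PresentedGroup.toGroup.of, tabPerm_inv_val]
      cases a <;> rfl⟩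
  obtain ⟨⟨u, -, -, hu, hu'⟩, ⟨s, -, -, hs, hs'⟩, ⟨w, -, -, hw, hw'⟩, ⟨w', -, -, hw2, -⟩⟩ :=
    seeds_real (H := ⊤) (hT .a) (hT .b) (hT .c) (hT .d) (hT .e) (hT .f) (hT .g)
  haveI : Fact data.p.Prime := ⟨by norm_num [data]⟩
  refine natCard_out_eq_two valid (ψ := ψ) hinj (by rw [hcard']; norm_num [data]) (by rw [hcard']; norm_num [data])
    hu hu' hs hs' hw hw' hw2 (fun H h1 h2 h3 => ?_) ?_
  · exact ⟨chain h1 h2 h3, chain h1 h2 h3, chain h1 h2 h3⟩
  · exact ⟨hcard'.le.trans prod_eq.ge, hcard'.le.trans prod_eq.ge, hcard'.le.trans prod_eq.ge⟩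

end CfsgLib.OutPresented.He
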